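import Groth.Agent.LocCohLib.BaseChange
import Groth.Agent.LocCohLib.Facts
import Groth.Agent.CommAlgDim.Depth
import Mathlib

/-! Depth of a flat base change of a module. -/

set_option autoImplicit false

universe u

open IsLocalRing CommAlgDim
open scoped TensorProduct

namespace DepthOpenLib

variable {A B : Type u} [CommRing A] [CommRing B] [IsLocalRing A] [IsLocalRing B] [IsNoetherianRing A]
  [IsNoetherianRing B] [Algebra A B] [IsLocalHom (algebraMap A B)] [Module.Flat A B]
  (M : Type u) [AddCommGroup M] [Module A M] [Module.Finite A M]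

theorem depth_le_depth_tensor : LocCoh.depth A M ≤ LocCoh.depth B (B ⊗[A] M) := by
  refine ENat.forall_natCast_le_iff_le.1 fun n hn => (le_depth_iff n).2 ?_
  rw [le_depth_iff, LocCohLib.hasSeqIn_iff_subsingleton_H] at hn
  have h2 : HasSeqIn ((maximalIdeal A).map (algebraMap A B)) (B ⊗[A] M) n := by
    rw [LocCohLib.hasSeqIn_iff_subsingleton_H]
    intro i hi
    haveI := hn i hi
    exact (LocCohLib.tensLcEquiv (R' := B) (maximalIdeal A) M i).symm.injective.subsingleton
  exact h2.mono_ideal (((IsLocalRing.local_hom_TFAE _).out 0 2).1 ‹IsLocalHom (algebraMap A B)›)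

/-- A zero dimensional closed fibre preserves the depth. -/
theorem depth_tensor_eq (hfib : ∀ Q : Ideal B, Q.IsPrime →
      (maximalIdeal A).map (algebraMap A B) ≤ Q → Q = maximalIdeal B) :
    LocCoh.depth B (B ⊗[A] M) = LocCoh.depth A M := by
  haveI : Module.FaithfullyFlat A B := Module.FaithfullyFlat.of_flat_of_isLocalHom
  refine le_antisymm (ENat.forall_natCast_le_iff_le.1 fun n hn => ?_) (depth_le_depth_tensor M)
  rw [le_depth_iff, LocCohLib.hasSeqIn_iff_subsingleton_H]
  intro i hi
  have h2 : HasSeqIn ((maximalIdeal A).map (algebraMap A B)) (B ⊗[A] M) n := by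
    refine hasSeqIn_of_forall_localization n _ fun p _ hp => ?_
    exact ((le_depth_iff n).1 hn).localization (hfib p inferInstance hp).ge
  rw [LocCohLib.hasSeqIn_iff_subsingleton_H] at h2
  haveI := h2 i hi
  haveI : Subsingleton (B ⊗[A] LocCoh.H (maximalIdeal A) i M) :=
    (LocCohLib.tensLcEquiv (R' := B) (maximalIdeal A) M i).injective.subsingleton
  exact Module.FaithfullyFlat.lTensor_reflects_triviality (R := A) (M := B) (LocCoh.H (maximalIdeal A) i M)

end DepthOpenLib
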